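import Groth.Agent.Picfga.HilbPull
import Groth.Agent.Picfga.ClosedMap

/-!
# Base change of a representing pair of the Hilbert functor of points (K327)

* `ov V T`: a scheme over `V.left` regarded over `S`; `sg g V T : (X_V)_T ≅ X_T`.
* `HV`, `pr`, `ZV`: the base change of a pair `(H, Z)` to `V`; `isUniversal_ZV`: it is universal if `(H, Z)` is.
-/

set_option autoImplicit false
set_option backward.isDefEq.respectTransparency false
universe u

open CategoryTheory CategoryTheory.Limits AlgebraicGeometry

namespace K327.BaseCh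

open Groth.Agent.Picfga.HilbPull

variable {X S : Scheme.{u}} (g : X ⟶ S) (V : Over S) {d : ℕ}

/-- A scheme over `V.left` regarded over `S`. -/
noncomputable abbrev ov (T : Over V.left) : Over S := Over.mk (T.hom ≫ V.hom)

/-- Functoriality of `ov`. -/
noncomputable def ovm {T T' : Over V.left} (a : T' ⟶ T) : ov V T' ⟶ ov V T :=
  Over.homMk a.left (by simp)

@[simp] theorem ovm_left {T T' : Over V.left} (a : T' ⟶ T) : (ovm V a).left = a.left := rfl

/-- `(X_V)_T ≅ X_T`. -/
noncomputable def sg (T : Over V.left) : PicF.XT (PicF.XTproj g V) T ⟶ PicF.XT g (ov V T) :=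
  (pullbackLeftPullbackSndIso g V.hom T.hom).hom

instance (T : Over V.left) : IsIso (sg g V T) := by unfold sg; infer_instance

@[reassoc (attr := simp)]
theorem sg_fst (T : Over V.left) : sg g V T ≫ pullback.fst g (ov V T).hom =
    pullback.fst (PicF.XTproj g V) T.hom ≫ pullback.fst g V.hom :=
  pullbackLeftPullbackSndIso_hom_fst g V.hom T.hom

@[reassoc (attr := simp)]
theorem sg_snd (T : Over V.left) : sg g V T ≫ PicF.XTproj g (ov V T) = PicF.XTproj (PicF.XTproj g V) T :=
  pullbackLeftPullbackSndIso_hom_snd g V.hom T.hom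

@[reassoc]
theorem XTmap_sg {T T' : Over V.left} (a : T' ⟶ T) :
    PicF.XTmap (PicF.XTproj g V) a ≫ sg g V T = sg g V T' ≫ PicF.XTmap g (ovm V a) := by
  apply pullback.hom_ext
  · rw [Category.assoc, sg_fst, Category.assoc, XTmap_fst, sg_fst, XTmap_fst_assoc]
  · change _ ≫ PicF.XTproj g (ov V T) = _ ≫ PicF.XTproj g (ov V T)
    rw [Category.assoc, sg_snd, XTmap_snd, Category.assoc, XTmap_snd, sg_snd_assoc]
    rfl

/-- The ideal of a point of degree `d` transported along an isomorphism over the base. -/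
theorem isFinLocFree_comap {A B T : Scheme.{u}} (e : A ⟶ B) [IsIso e] (a : A ⟶ T) (b : B ⟶ T)
    (h : e ≫ b = a) (I : B.IdealSheafData) (hI : Mor2.IsFinLocFreeOfDeg d (I.subschemeι ≫ b)) :
    Mor2.IsFinLocFreeOfDeg d ((I.comap e).subschemeι ≫ a) := by
  have h1 : IsPullback ((I.comapIso e).hom ≫ pullback.snd _ _) (I.comap e).subschemeι I.subschemeι e :=
    (IsPullback.of_iso (IsPullback.of_hasPullback e I.subschemeι)
      (I.comapIso _).symm (Iso.refl _) (Iso.refl _) (Iso.refl _)
      (by simp) (by rw [Iso.refl_hom, Category.comp_id, Iso.symm_hom, Iso.inv_hom_id_assoc])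
      (by simp) (by simp)).flip
  have h2 : IsPullback e a b (𝟙 T) := by
    refine IsPullback.of_horiz_isIso ⟨?_⟩
    rw [Category.comp_id, h]
  exact isFinLocFreeOfDeg_of_isPullback (h1.paste_vert h2) hI

/-- An object over `S` gives one over `V`. -/
noncomputable def down (T : Over V.left) (W : HilbD.Obj g d (ov V T)) : HilbD.Obj (PicF.XTproj g V) d T :=
  ⟨W.1.comap (sg g V T), isFinLocFree_comap (sg g V T) _ _ (sg_snd g V T) _ W.2⟩

/-- An object over `V` gives one over `S`. -/
noncomputable def upO (T : Over V.left) (W : HilbD.Obj (PicF.XTproj g V) d T) : HilbD.Obj g d (ov V T) :=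
  ⟨W.1.comap (inv (sg g V T)), isFinLocFree_comap (inv (sg g V T)) _ _
    (by rw [IsIso.inv_comp_eq, sg_snd]) _ W.2⟩

theorem down_upO (T : Over V.left) (W : HilbD.Obj (PicF.XTproj g V) d T) : down g V T (upO g V T W) = W := by
  apply Subtype.ext
  change (W.1.comap _).comap _ = _
  rw [← Scheme.IdealSheafData.comap_comp, IsIso.hom_inv_id, Scheme.IdealSheafData.comap_id]

theorem upO_down (T : Over V.left) (W : HilbD.Obj g d (ov V T)) : upO g V T (down g V T W) = W := by
  apply Subtype.ext
  change (W.1.comap _).comap _ = _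
  rw [← Scheme.IdealSheafData.comap_comp, IsIso.inv_hom_id, Scheme.IdealSheafData.comap_id]

variable {V}

theorem pull_down {T T' : Over V.left} (a : T' ⟶ T) (I : (PicF.XT g (ov V T)).IdealSheafData) :
    HilbD.pull (PicF.XTproj g V) a (I.comap (sg g V T)) = (HilbD.pull g (ovm V a) I).comap (sg g V T') := by
  rw [pull_eq_comap, pull_eq_comap, ← Scheme.IdealSheafData.comap_comp, ← Scheme.IdealSheafData.comap_comp,
    XTmap_sg]

variable (V)

section HV

variable (H : Over S) (Z : HilbD.Obj g d H)

/-- The base change `H ×_S V` over `V`. -/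
noncomputable def HV : Over V.left := Over.mk (pullback.snd H.hom V.hom)

/-- The projection `H ×_S V ⟶ H`. -/
noncomputable def pr : ov V (HV V H) ⟶ H := Over.homMk (pullback.fst H.hom V.hom) pullback.condition

/-- The universal object over `H ×_S V`. -/
noncomputable def ZV : HilbD.Obj (PicF.XTproj g V) d (HV V H) := down g V (HV V H) (pullObj g (pr V H) Z)

/-- Morphisms to `H ×_S V`. -/
noncomputable def mkHV (T : Over V.left) (b : ov V T ⟶ H) : T ⟶ HV V H :=
  Over.homMk (pullback.lift b.left T.hom (Over.w b)) (pullback.lift_snd _ _ _)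

theorem ovm_mkHV (T : Over V.left) (b : ov V T ⟶ H) : ovm V (mkHV V H T b) ≫ pr V H = b := by
  ext1
  exact pullback.lift_fst _ _ _

theorem hom_ext_HV {T : Over V.left} {a b : T ⟶ HV V H} (h : ovm V a ≫ pr V H = ovm V b ≫ pr V H) : a = b := by
  ext1
  apply pullback.hom_ext
  · exact congr_arg (fun x : ov V T ⟶ H => x.left) h
  · exact (Over.w a).trans (Over.w b).symm

variable {H Z} in
/-- `(H ×_S V, Z_V)` represents the Hilbert functor of points of `X_V` over `V`. -/
theorem isUniversal_ZV (hZ : HilbD.IsUniversal g d H Z) :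
    HilbD.IsUniversal (PicF.XTproj g V) d (HV V H) (ZV g V H Z) := by
  intro T W
  have key : ∀ a : T ⟶ HV V H, HilbD.pull (PicF.XTproj g V) a (ZV g V H Z).1 = W.1 ↔
      HilbD.pull g (ovm V a ≫ pr V H) Z.1 = (upO g V T W).1 := by
    intro a
    have h1 : HilbD.pull (PicF.XTproj g V) a (ZV g V H Z).1 =
        (down g V T (pullObj g (ovm V a ≫ pr V H) Z)).1 := by
      change HilbD.pull (PicF.XTproj g V) a ((HilbD.pull g (pr V H) Z.1).comap (sg g V _)) =
        (HilbD.pull g (ovm V a ≫ pr V H) Z.1).comap _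
      rw [pull_down, pull_comp]
    rw [h1]
    constructor
    · intro h
      have h2 : down g V T (pullObj g (ovm V a ≫ pr V H) Z) = W := Subtype.ext h
      rw [← h2, upO_down]
      rfl
    · intro h
      have h2 : pullObj g (ovm V a ≫ pr V H) Z = upO g V T W := Subtype.ext h
      rw [h2, down_upO]
  obtain ⟨b, hb, hb'⟩ := hZ (ov V T) (upO g V T W)
  refine ⟨mkHV V H T b, ?_, fun a ha => ?_⟩
  · change HilbD.pull (PicF.XTproj g V) _ (ZV g V H Z).1 = W.1
    rw [key, ovm_mkHV]
    exact hb
  · apply hom_ext_HV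
    rw [ovm_mkHV]
    exact hb' _ ((key a).1 ha)

end HV

end K327.BaseCh
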