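import Groth.Agent.Surf.K464.Curves
import Groth.Agent.Surf.K455.CMInt
import Groth.Agent.Surf.K455.Proj
import Groth.Agent.Ega4A.RegCM
import Groth.Agent.Dix.InterNum
import Groth.Agent.CurvesC.Dim1Top
import Groth.Agent.Pic13.H547.Rigidifier
import Groth.Prelude.Def_Mor2

/-!
# Points in the intersection of two curves on a smooth surface (K327)

* `h0_le`: a closed subscheme of a finite `K`-scheme has at most as many functions;
* `h0_eq_of_deg`: finite locally free of degree `d` over a field means `h0 = d`;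
* `le_intNum`: a finite subscheme of length `ℓ` in the intersection of two distinct integral curves on a smooth
  proper surface forces `ℓ ≤ (C . D)`.
-/

set_option autoImplicit false
universe u

open CategoryTheory CategoryTheory.Limits AlgebraicGeometry

namespace K327.CurvePts

open Groth.Agent.Dix.InterNum K464.Curves

section Fin

variable {K : Type u} [Field K]

theorem structure_eq {Z : Scheme.{u}} [IsAffine Z] (f : Z ⟶ Spec (CommRingCat.of K)) :
    f = Z.isoSpec.hom ≫ Spec.map (CommRingCat.ofHom (glo f)) := by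
  have h := Scheme.isoSpec_hom_naturality f
  have h2 : (Spec (CommRingCat.of K)).isoSpec.hom = Spec.map (Scheme.ΓSpecIso (CommRingCat.of K)).hom :=
    Scheme.isoSpec_Spec_hom _
  have h3 : CommRingCat.ofHom (glo f) = (Scheme.ΓSpecIso (CommRingCat.of K)).inv ≫ f.appTop := rfl
  rw [h3, Spec.map_comp, ← Category.assoc, h, h2, Category.assoc, ← Spec.map_comp]
  simp

theorem finite_glo {Z : Scheme.{u}} (f : Z ⟶ Spec (CommRingCat.of K)) [IsFinite f] : (glo f).Finite := by
  have : IsAffine Z := isAffine_of_isAffineHom f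
  have h1 := structure_eq f
  have h2 : IsFinite (Spec.map (CommRingCat.ofHom (glo f))) := by
    have h4 : Spec.map (CommRingCat.ofHom (glo f)) = Z.isoSpec.inv ≫ f := by
      rw [Iso.eq_inv_comp, ← h1]
    rw [h4]
    infer_instance
  exact (IsFinite.SpecMap_iff _).1 h2

/-- Functions on a finite locally free `K`-scheme. -/
theorem h0_eq_of_deg {Z : Scheme.{u}} (f : Z ⟶ Spec (CommRingCat.of K)) {d : ℕ} (h : Mor2.IsFinLocFreeOfDeg d f) :
    h0 f = d := by
  obtain ⟨⟨hfin, hflat, hfp⟩, hdeg⟩ := h
  have : IsAffine Z := isAffine_of_isAffineHom f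
  obtain ⟨y⟩ : Nonempty (Spec (CommRingCat.of K)) := inferInstance
  have h3 := hdeg y
  let : Algebra K Γ(Z, ⊤) := (glo f).toAlgebra
  have h1 : f = Z.isoSpec.hom ≫ Spec.map (CommRingCat.ofHom (algebraMap K Γ(Z, ⊤))) := structure_eq f
  have h2 : Module.Finite K Γ(Z, ⊤) := finite_glo f
  have h0 : IsFinite (Spec.map (CommRingCat.ofHom (algebraMap K Γ(Z, ⊤)))) :=
    (IsFinite.SpecMap_iff _).2 (finite_glo f)
  rw [h1, Scheme.Hom.finrank_comp_left_of_isIso] at h3
  have h5 := Scheme.Hom.finrank_SpecMap_algebraMap K Γ(Z, ⊤) y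
  rw [Module.rankAtStalk_eq_finrank_of_free] at h5
  exact h5.symm.trans h3

/-- Functions on a closed subscheme of a finite scheme. -/
theorem h0_le {Z Z' : Scheme.{u}} (f : Z' ⟶ Spec (CommRingCat.of K)) [IsFinite f] (e : Z ⟶ Z')
    [IsClosedImmersion e] : h0 (e ≫ f) ≤ h0 f := by
  have : IsAffine Z' := isAffine_of_isAffineHom f
  let m1 : Module K Γ(Z, ⊤) := Module.compHom Γ(Z, ⊤) (glo (e ≫ f))
  let m2 : Module K Γ(Z', ⊤) := Module.compHom Γ(Z', ⊤) (glo f)
  have hf : Module.Finite K Γ(Z', ⊤) := finite_glo f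
  let φ : Γ(Z', ⊤) →ₗ[K] Γ(Z, ⊤) :=
    { toFun := e.appTop.hom
      map_add' := map_add _
      map_smul' := fun t x => by
        change e.appTop.hom (glo f t * x) = glo (e ≫ f) t * e.appTop.hom x
        rw [map_mul, glo_comp] }
  have hs : Function.Surjective φ := e.app_surjective ⊤ (isAffineOpen_top Z')
  exact LinearMap.finrank_le_finrank_of_surjective hs

end Fin

variable (K : Type u) [Field K] (Y : Scheme.{u}) [Y.Over (Spec (CommRingCat.of K))]

theorem finite_inter [IsNoetherian Y] {C D : Y.IdealSheafData} (hC : IsCurve C) (hD : IsCurve D) (hne : C ≠ D) :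
    ((C ⊔ D).support : Set Y).Finite := by
  have := hC.integral
  have hn0 : IsLocallyNoetherian C.subscheme := LocallyOfFiniteType.isLocallyNoetherian C.subschemeι
  have hcs : CompactSpace C.subscheme := (quasiCompact_iff_compactSpace (f := C.subschemeι)).1 inferInstance
  have hn : AlgebraicGeometry.IsNoetherian C.subscheme := { }
  have h1 : topologicalKrullDim C.subscheme ≤ 1 := ((dim_sub Y C).trans hC.dim).le
  let Z : Set C.subscheme := C.subschemeι ⁻¹' (D.support : Set Y)
  have hZ : IsClosed Z := D.support.isClosed.preimage C.subschemeι.continuous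
  have hZne : Z ≠ Set.univ := by
    intro h
    have h2 : genericPoint C.subscheme ∈ Z := by rw [h]; trivial
    exact gp_notMem hC hD hne h2
  have hfin := Groth.Agent.CurvesC.Dim1Top.finite_of_isClosed h1 hZ hZne
  refine (hfin.image C.subschemeι).subset ?_
  intro y hy
  rw [Scheme.IdealSheafData.support_sup] at hy
  have hy1 : y ∈ (C.support : Set Y) := hy.1
  have hy2 : y ∈ (D.support : Set Y) := hy.2
  rw [← C.range_subschemeι] at hy1
  obtain ⟨z, rfl⟩ := hy1
  exact ⟨z, hy2, rfl⟩

/-- A finite subscheme in the intersection of two distinct integral curves on a smooth proper surface. -/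
theorem le_intNum [IsIntegral Y] [Smooth (Y ↘ Spec (CommRingCat.of K))] [IsProper (Y ↘ Spec (CommRingCat.of K))]
    (hdim : topologicalKrullDim Y = 2) {C D W : Y.IdealSheafData} (hC : IsCurve C) (hD : IsCurve D) (hne : C ≠ D)
    (hCW : C ≤ W) (hDW : D ≤ W) {ℓ : ℕ}
    (hW : Mor2.IsFinLocFreeOfDeg ℓ (W.subschemeι ≫ (Y ↘ Spec (CommRingCat.of K)))) :
    (ℓ : ℤ) ≤ FGA.intNum K Y 2 ![ClSub.idealMod C, ClSub.idealMod D] (Coh.structureModule Y) := by
  have hN : IsNoetherian Y := Groth.Agent.Fga.IntAdd.isNoetherian K Y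
  have hfin := finite_inter Y hC hD hne
  rw [K455.CMInt.intNum_eq_of_isCohenMacaulay K (K455.Proj.dim_components hdim) C D
    (isEff_of_smooth K hdim hC) (isEff_of_smooth K hdim hD) (fun x _ => by
      have := Groth.Agent.S1535.result K Y x
      exact Groth.Agent.Ega4A.RegCM.isCohenMacaulayLocalRing_of_isRegularLocalRing _) hfin,
    finrank_quotMod]
  have hf : IsFinite ((C ⊔ D).subschemeι ≫ (Y ↘ Spec (CommRingCat.of K))) :=
    Groth.Agent.Pic13.H547.Rigidifier.isFinite_of_support_finite K _ _ hfin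
  have hle : C ⊔ D ≤ W := sup_le hCW hDW
  let e : W.subscheme ⟶ (C ⊔ D).subscheme := Scheme.IdealSheafData.inclusion hle
  have he : e ≫ (C ⊔ D).subschemeι = W.subschemeι := Scheme.IdealSheafData.inclusion_subschemeι hle
  have hec : IsClosedImmersion e := by
    have : IsClosedImmersion (e ≫ (C ⊔ D).subschemeι) := by rw [he]; infer_instance
    exact IsClosedImmersion.of_comp_isClosedImmersion e (C ⊔ D).subschemeι
  have h1 := h0_eq_of_deg _ hW
  have h2 := h0_le ((C ⊔ D).subschemeι ≫ (Y ↘ Spec (CommRingCat.of K))) e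
  rw [← Category.assoc, he, h1] at h2
  exact_mod_cast h2

end K327.CurvePts
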