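import Groth.Agent.HilbD.K327.BaseCh
import Groth.Agent.S1168
import Groth.Prelude.Def_FGA

/-!
# The relative Hilbert scheme of points of a closed subscheme `C ⊆ X ×_S V` mapped to the one of `X` (K327)

`m : H' ⟶ H` classifying the image in `X` of the universal family of `C / V`.
* `isProper_m`: `m` is proper if `V ⟶ S` is;
* `pull_C_le`: the universal subscheme is contained in `C`;
* `eq_of_snd`: a point of `H'` is determined by its images in `H` and `V`.
-/

set_option autoImplicit false
set_option backward.isDefEq.respectTransparency false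
universe u

open CategoryTheory CategoryTheory.Limits AlgebraicGeometry

namespace K327.RelHilb

open Groth.Agent.Picfga.HilbPull Groth.Agent.Picfga.ClosedMap K327.BaseCh

variable {X S : Scheme.{u}} {g : X ⟶ S} {V : Over S} {C : (PicF.XT g V).IdealSheafData} {d : ℕ}
  {Hx : Over S} {Zx : HilbD.Obj g d Hx} {H' : Over V.left}
  {Z' : HilbD.Obj (C.subschemeι ≫ PicF.XTproj g V) d H'} {m : Over.mk (H'.hom ≫ V.hom) ⟶ Hx}
  {heq : (C.subschemeι ≫ PicF.XTproj g V) ≫ V.hom = (C.subschemeι ≫ pullback.fst g V.hom) ≫ g}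

theorem map_eq : pullback.map (C.subschemeι ≫ PicF.XTproj g V) H'.hom g (H'.hom ≫ V.hom)
      (C.subschemeι ≫ pullback.fst g V.hom) (𝟙 H'.left) V.hom heq (Category.id_comp _).symm =
    jT C.subschemeι (PicF.XTproj g V) H' ≫ sg g V H' := by
  apply pullback.hom_ext
  · rw [Category.assoc]
    erw [sg_fst]
    rw [jT_fst_assoc]
    simp [pullback.map]
  · change _ = _ ≫ PicF.XTproj g (ov V H')
    rw [Category.assoc, sg_snd, jT_snd]
    simp [pullback.map, PicF.XTproj]

section

variable (hm : HilbD.pull g m Zx.1 =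
    (Z'.1.subschemeι ≫ pullback.map (C.subschemeι ≫ PicF.XTproj g V) H'.hom g (H'.hom ≫ V.hom)
      (C.subschemeι ≫ pullback.fst g V.hom) (𝟙 H'.left) V.hom heq (Category.id_comp _).symm).ker)

include hm

theorem pull_eq_map : HilbD.pull g m Zx.1 = (Z'.1.map (jT C.subschemeι (PicF.XTproj g V) H')).map (sg g V H') := by
  rw [hm, map_eq, ← Scheme.IdealSheafData.map_comp]
  rfl

/-- The morphism to `H ×_S V` classifies the image in `X_V`. -/
theorem pull_mkHV : HilbD.pull (PicF.XTproj g V) (mkHV V Hx H' m) (ZV g V Hx Zx).1 =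
    HilbD.push C.subschemeι (PicF.XTproj g V) H' Z'.1 := by
  change HilbD.pull (PicF.XTproj g V) _ ((HilbD.pull g (pr V Hx) Zx.1).comap (sg g V _)) = _
  rw [pull_down, ← pull_comp, ovm_mkHV, pull_eq_map hm, comap_map]
  rfl

/-- `H' ⟶ H ×_S V` is a closed immersion. -/
theorem isClosedImmersion_mkHV (hZx : HilbD.IsUniversal g d Hx Zx)
    (hZ' : HilbD.IsUniversal (C.subschemeι ≫ PicF.XTproj g V) d H' Z') :
    IsClosedImmersion (mkHV V Hx H' m).left :=
  (Groth.Agent.S1168.result C.subschemeι (PicF.XTproj g V) d (HV V Hx) (ZV g V Hx Zx)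
    (isUniversal_ZV g V hZx)).2 H' Z' hZ' _ (pull_mkHV hm)

/-- `m` is proper. -/
theorem isProper_m [IsProper V.hom] (hZx : HilbD.IsUniversal g d Hx Zx)
    (hZ' : HilbD.IsUniversal (C.subschemeι ≫ PicF.XTproj g V) d H' Z') : IsProper m.left := by
  have h1 := isClosedImmersion_mkHV hm hZx hZ'
  have h2 : m.left = (mkHV V Hx H' m).left ≫ pullback.fst Hx.hom V.hom := (pullback.lift_fst _ _ _).symm
  rw [h2]
  infer_instance

/-- A point of `H'` is determined by its images in `H` and `V`. -/
theorem eq_of_snd (hZx : HilbD.IsUniversal g d Hx Zx)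
    (hZ' : HilbD.IsUniversal (C.subschemeι ≫ PicF.XTproj g V) d H' Z') {T : Scheme.{u}} {a b : T ⟶ H'.left}
    (h1 : a ≫ m.left = b ≫ m.left) (h2 : a ≫ H'.hom = b ≫ H'.hom) : a = b := by
  have h0 := isClosedImmersion_mkHV hm hZx hZ'
  rw [← cancel_mono (mkHV V Hx H' m).left]
  have e1 : (mkHV V Hx H' m).left ≫ pullback.fst Hx.hom V.hom = m.left := pullback.lift_fst _ _ _
  have e2 : (mkHV V Hx H' m).left ≫ pullback.snd Hx.hom V.hom = H'.hom := pullback.lift_snd _ _ _
  apply pullback.hom_ext
  · rw [Category.assoc, Category.assoc, e1, h1]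
  · rw [Category.assoc, Category.assoc, e2, h2]

/-- The universal subscheme over `H'` is contained in `C`. -/
theorem pull_C_le : HilbD.pull g (Over.homMk H'.hom rfl : ov V H' ⟶ V) C ≤ HilbD.pull g m Zx.1 := by
  rw [pull_eq_map hm, pull_eq_comap, ← Scheme.IdealSheafData.map_comp,
    Scheme.IdealSheafData.le_map_iff_comap_le, ← Scheme.IdealSheafData.comap_comp]
  have h1 : (jT C.subschemeι (PicF.XTproj g V) H' ≫ sg g V H') ≫
      PicF.XTmap g (Over.homMk H'.hom rfl : ov V H' ⟶ V) =
      pullback.fst (C.subschemeι ≫ PicF.XTproj g V) H'.hom ≫ C.subschemeι := by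
    rw [Category.assoc]
    apply pullback.hom_ext
    · rw [Category.assoc, Category.assoc, XTmap_fst, sg_fst, jT_fst_assoc, Category.assoc]
    · change _ ≫ PicF.XTproj g V = _ ≫ PicF.XTproj g V
      rw [Category.assoc, Category.assoc, XTmap_snd, sg_snd_assoc, jT_snd_assoc, Category.assoc]
      exact (pullback.condition (f := C.subschemeι ≫ PicF.XTproj g V) (g := H'.hom)).symm
  rw [h1, Scheme.IdealSheafData.comap_comp]
  have h2 : C.comap C.subschemeι = ⊥ := by
    rw [Groth.Agent.Picfga.ContainLocus.comap_eq_bot_iff, Scheme.IdealSheafData.ker_subschemeι]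
  rw [h2, Scheme.IdealSheafData.comap_bot]
  exact bot_le

/-- For a point `x : T ⟶ H'` the subscheme classified by `x ≫ m` is contained in the fibre of `C` at the
image of `x` in `V`. -/
theorem pull_le {T : Over S} (x : T ⟶ ov V H') :
    HilbD.pull g (x ≫ (Over.homMk H'.hom rfl : ov V H' ⟶ V)) C ≤ HilbD.pull g (x ≫ m) Zx.1 := by
  rw [pull_comp, pull_comp, pull_eq_comap g x, pull_eq_comap g x]
  exact Scheme.IdealSheafData.comap_mono _ (pull_C_le hm)

end

end K327.RelHilb
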