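import Groth.Agent.HilbD.K327.RelHilb
import Groth.Agent.HilbD.K327.CurvePts
import Groth.Agent.FBase.K106.Dim
import Groth.Agent.Flat2B.SmoothGeom
import Mathlib.AlgebraicGeometry.Geometrically.Irreducible
import Mathlib.AlgebraicGeometry.ZariskisMainTheorem

/-!
# The relative Hilbert scheme of points of a family of curves on a surface (K327)

`eq_of_comp_m`: two geometric points of `H' = Hilb^ℓ(C / U)` with the same image in `Hilb^ℓ(X)` agree if
`C_a · C_b < ℓ`.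
-/

set_option autoImplicit false
universe u

open CategoryTheory CategoryTheory.Limits AlgebraicGeometry

namespace K327.RelMain

open Groth.Agent.Picfga.HilbPull K327.BaseCh K327.RelHilb K327.CurvePts K464.Curves

/-- The pull back of a point of the Hilbert functor. -/
noncomputable def pullSet {X S : Scheme.{u}} (g : X ⟶ S) {T T' : Over S} (a : T' ⟶ T) (Z : FGA.HilbSet g T) :
    FGA.HilbSet g T' :=
  ⟨FGA.hilbPull g a Z.1, by
    obtain ⟨m, hm⟩ := isPullback_pull_base g a Z.1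
    have h1 := Z.2.1
    have h2 := Z.2.2
    exact ⟨MorphismProperty.of_isPullback hm h1, MorphismProperty.of_isPullback hm h2⟩⟩

theorem isIntegral_bc {k : Type u} [Field k] {X : Scheme.{u}} (g : X ⟶ Spec (CommRingCat.of k)) [Smooth g]
    [GeometricallyIrreducible g] {K : Type u} [Field K] (y : Spec (CommRingCat.of K) ⟶ Spec (CommRingCat.of k)) :
    IsIntegral (pullback g y) := by
  have h := Groth.Agent.Flat2B.SmoothGeom.geometricallyIntegral_of_smooth g
  exact pullback_of_geometrically h.geometrically_isIntegral K y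

variable {k : Type u} [Field k] {X : Scheme.{u}} {g : X ⟶ Spec (CommRingCat.of k)}

theorem eq_of_comp_m [Smooth g] [IsProper g] [GeometricallyIrreducible g] (hdim : topologicalKrullDim X = 2)
    {H : Over (Spec (CommRingCat.of k))} {Zu : FGA.HilbSet g H} (hH : FGA.HilbRepresentedBy g H Zu)
    {U : H.left.Opens} {C : (PicF.XT g (Over.mk (U.ι ≫ H.hom))).IdealSheafData}
    (hC : C = FGA.hilbPull g (Over.homMk U.ι rfl : Over.mk (U.ι ≫ H.hom) ⟶ H) Zu.1)
    (hint : ∀ (K : Type u) [Field K] [IsAlgClosed K] [Algebra k K]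
      (a : Over.mk (Spec.map (CommRingCat.ofHom (algebraMap k K))) ⟶ Over.mk (U.ι ≫ H.hom)),
      IsIntegral (FGA.hilbPull g a C).subscheme ∧
        topologicalKrullDim ↥(FGA.hilbPull g a C).subscheme = 1)
    {I : ℤ}
    (hI : ∀ (K : Type u) [Field K] [IsAlgClosed K] [Algebra k K]
      (a b : Over.mk (Spec.map (CommRingCat.ofHom (algebraMap k K))) ⟶ Over.mk (U.ι ≫ H.hom)),
      letI TK : Over (Spec (CommRingCat.of k)) := Over.mk (Spec.map (CommRingCat.ofHom (algebraMap k K)))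
      letI : (PicF.XT g TK).Over (Spec (CommRingCat.of K)) := ⟨PicF.XTproj g TK⟩
      FGA.intNum K (PicF.XT g TK) 2
        (fun i : Fin 2 => if i = 0 then ClSub.idealMod (FGA.hilbPull g a C)
          else ClSub.idealMod (FGA.hilbPull g b C))
        (Coh.structureModule (PicF.XT g TK)) = I)
    {ℓ : ℕ} (hIℓ : I < (ℓ : ℤ))
    {Hx : Over (Spec (CommRingCat.of k))} {Zx : HilbD.Obj g ℓ Hx} (hZx : HilbD.IsUniversal g ℓ Hx Zx)
    {H' : Over (↑U : Scheme.{u})}
    {Z' : HilbD.Obj (C.subschemeι ≫ PicF.XTproj g (Over.mk (U.ι ≫ H.hom))) ℓ H'}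
    (hZ' : HilbD.IsUniversal (C.subschemeι ≫ PicF.XTproj g (Over.mk (U.ι ≫ H.hom))) ℓ H' Z')
    {m : Over.mk (H'.hom ≫ U.ι ≫ H.hom) ⟶ Hx}
    {heq : (C.subschemeι ≫ PicF.XTproj g (Over.mk (U.ι ≫ H.hom))) ≫ (U.ι ≫ H.hom) =
      (C.subschemeι ≫ pullback.fst g (Over.mk (U.ι ≫ H.hom)).hom) ≫ g}
    (hm : HilbD.pull g m Zx.1 =
      (Z'.1.subschemeι ≫ pullback.map (C.subschemeι ≫ PicF.XTproj g (Over.mk (U.ι ≫ H.hom))) H'.hom g
        (H'.hom ≫ U.ι ≫ H.hom)
        (C.subschemeι ≫ pullback.fst g (Over.mk (U.ι ≫ H.hom)).hom) (𝟙 H'.left) (U.ι ≫ H.hom)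
        heq (Category.id_comp _).symm).ker)
    {K : Type u} [Field K] [IsAlgClosed K] (x y : Spec (CommRingCat.of K) ⟶ H'.left)
    (hxy : x ≫ m.left = y ≫ m.left) : x = y := by
  obtain ⟨φ, hφ⟩ := Spec.map_surjective (x ≫ H'.hom ≫ U.ι ≫ H.hom)
  letI : Algebra k K := φ.hom.toAlgebra
  let V : Over (Spec (CommRingCat.of k)) := Over.mk (U.ι ≫ H.hom)
  let TK : Over (Spec (CommRingCat.of k)) := Over.mk (Spec.map (CommRingCat.ofHom (algebraMap k K)))
  have e1 : x ≫ H'.hom ≫ U.ι ≫ H.hom = Spec.map (CommRingCat.ofHom (algebraMap k K)) := hφ.symm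
  have e0 : m.left ≫ Hx.hom = H'.hom ≫ U.ι ≫ H.hom := Over.w m
  have e2 : y ≫ H'.hom ≫ U.ι ≫ H.hom = Spec.map (CommRingCat.ofHom (algebraMap k K)) := by
    rw [← e0, ← Category.assoc, ← hxy, Category.assoc, e0, e1]
  let x1 : TK ⟶ ov V H' := Over.homMk x e1
  let x2 : TK ⟶ ov V H' := Over.homMk y e2
  have h12 : x1 ≫ m = x2 ≫ m := by
    ext1
    exact hxy
  let q : ov V H' ⟶ V := Over.homMk H'.hom rfl
  by_cases hab : x1 ≫ q = x2 ≫ q
  · exact eq_of_snd (V := V) (heq := heq) hm hZx hZ' hxy (congr_arg (fun t : TK ⟶ V => t.left) hab)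
  exfalso
  have hne : FGA.hilbPull g (x1 ≫ q) C ≠ FGA.hilbPull g (x2 ≫ q) C := by
    intro h
    apply hab
    let j : V ⟶ H := Over.homMk U.ι rfl
    have hj : ∀ a : TK ⟶ V, FGA.hilbPull g a C = FGA.hilbPull g (a ≫ j) Zu.1 := by
      intro a
      rw [hC]
      exact (pull_comp g a j Zu.1).symm
    have : IsLocallyNoetherian TK.left := inferInstanceAs (IsLocallyNoetherian (Spec (CommRingCat.of K)))
    have h3 : (x1 ≫ q) ≫ j = (x2 ≫ q) ≫ j := by
      refine (hH.2 TK (pullSet g ((x1 ≫ q) ≫ j) Zu)).unique rfl ?_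
      rw [← hj, ← h, hj]
      rfl
    ext1
    rw [← cancel_mono U.ι]
    exact congr_arg (fun t : TK ⟶ H => t.left) h3
  letI : (PicF.XT g TK).Over (Spec (CommRingCat.of K)) := ⟨PicF.XTproj g TK⟩
  have i1 : IsIntegral (PicF.XT g TK) := isIntegral_bc g _
  have i2 : Smooth ((PicF.XT g TK) ↘ Spec (CommRingCat.of K)) :=
    inferInstanceAs (Smooth (pullback.snd g TK.hom))
  have i3 : IsProper ((PicF.XT g TK) ↘ Spec (CommRingCat.of K)) :=
    inferInstanceAs (IsProper (pullback.snd g TK.hom))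
  have hd : topologicalKrullDim (PicF.XT g TK) = 2 := (K106.Dim.topologicalKrullDim_bc_eq g K).trans hdim
  have hc1 : IsCurve (FGA.hilbPull g (x1 ≫ q) C) :=
    ⟨(hint K (x1 ≫ q)).1, (dim_sub _ _).symm.trans (hint K (x1 ≫ q)).2⟩
  have hc2 : IsCurve (FGA.hilbPull g (x2 ≫ q) C) :=
    ⟨(hint K (x2 ≫ q)).1, (dim_sub _ _).symm.trans (hint K (x2 ≫ q)).2⟩
  have l1 : FGA.hilbPull g (x1 ≫ q) C ≤ HilbD.pull g (x1 ≫ m) Zx.1 := pull_le (V := V) (heq := heq) hm x1
  have l2 : FGA.hilbPull g (x2 ≫ q) C ≤ HilbD.pull g (x1 ≫ m) Zx.1 := by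
    rw [h12]
    exact pull_le (V := V) (heq := heq) hm x2
  have h5 := le_intNum K (PicF.XT g TK) hd hc1 hc2 hne l1 l2 (pullObj g (x1 ≫ m) Zx).2
  have h6 := hI K (x1 ≫ q) (x2 ≫ q)
  have h7 : (fun i : Fin 2 => if i = 0 then ClSub.idealMod (FGA.hilbPull g (x1 ≫ q) C)
          else ClSub.idealMod (FGA.hilbPull g (x2 ≫ q) C)) =
      ![ClSub.idealMod (FGA.hilbPull g (x1 ≫ q) C), ClSub.idealMod (FGA.hilbPull g (x2 ≫ q) C)] := by
    funext i
    fin_cases i <;> rfl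
  rw [h7] at h6
  rw [h6] at h5
  exact absurd hIℓ (not_lt.2 h5)

end K327.RelMain
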